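import Cfsg.Agent.Helper9.GenBr.Main

/-!
Generic bridge: a `p`-group of automorphisms without common non-trivial fixed points acts
coprimely, and the resulting reduction of Ward-type statements to the linear hypothesis.
-/

set_option autoImplicit false
set_option linter.style.haveILetI false
set_option linter.unusedSectionVars false

namespace Cfsg.Agent.Helper9.GenBr

universe u₁

/-- a `p`-group of automorphisms without common non-trivial fixed points acts coprimely. -/
theorem coprime_of_fpf_pgroup {G : Type u₁} [Group G] [Finite G] {p : ℕ} [hp : Fact p.Prime]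
    (B : Subgroup (MulAut G)) (hB : IsPGroup p B)
    (hfpf : ∀ g : G, (∀ a ∈ B, a g = g) → g = 1) :
    (Nat.card G).Coprime (Nat.card ↥B) := by
  haveI : Finite (MulAut G) := Finite.of_injective (fun e : MulAut G => (e : G → G))
    (fun a b hab => MulEquiv.ext (congrFun hab))
  obtain ⟨n, hn⟩ := (IsPGroup.iff_card).1 hB
  rw [hn]
  apply Nat.Coprime.pow_right
  have h1 := hB.card_modEq_card_fixedPoints G
  have h2 : Nat.card (MulAction.fixedPoints ↥B G) = 1 := by
    rw [Nat.card_eq_one_iff_unique]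
    refine ⟨⟨?_⟩, ⟨⟨1, fun b => map_one (b : MulAut G)⟩⟩⟩
    rintro ⟨x, hx⟩ ⟨y, hy⟩
    apply Subtype.ext
    have hx1 : x = 1 := hfpf x (fun a ha => hx ⟨a, ha⟩)
    have hy1 : y = 1 := hfpf y (fun a ha => hy ⟨a, ha⟩)
    exact hx1.trans hy1.symm
  rw [h2] at h1
  rw [Nat.coprime_comm, Nat.Prime.coprime_iff_not_dvd hp.out]
  intro hdvd
  have h3 : Nat.card G ≡ 0 [MOD p] := (Nat.modEq_zero_iff_dvd).2 hdvd
  have h4 : 1 ≡ 0 [MOD p] := h1.symm.trans h3
  have h5 := (Nat.modEq_zero_iff_dvd).1 h4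
  exact hp.out.one_lt.ne' (Nat.dvd_one.1 h5)

/-- the reduction for a `p`-group of automorphisms: only the linear hypothesis remains. -/
theorem fitting_chain_of_pgroup {G : Type u₁} [Group G] [Finite G] (hG : Group.IsSolvable G)
    {p : ℕ} (hp : p.Prime) (B : Subgroup (MulAut G)) (hB : IsPGroup p B)
    (hLin : LinHypA.{u₁} ↥B)
    (hfpf : ∀ g : G, (∀ a ∈ B, a g = g) → g = 1) :
    ∃ F : Fin (2 + 1) → Subgroup G, F 0 = ⊥ ∧ F (Fin.last 2) = ⊤ ∧ Monotone F ∧
      (∀ i, (F i).Normal) ∧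
      ∀ i : Fin 2, ∃ k : ℕ, (F i.succ).lowerCentralSeries k ≤ F i.castSucc := by
  haveI : Fact p.Prime := ⟨hp⟩
  exact fitting_chain_of_mulAut hG B hLin (coprime_of_fpf_pgroup B hB hfpf) hfpf

end Cfsg.Agent.Helper9.GenBr
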