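import Cfsg.Agent.Helper9.GenBr.WardGlue
import Cfsg.Agent.Lead.WardGen

/-!
Generic bridge, final glue for Ward's theorem: the statement for an elementary abelian group of
automorphisms of order `p²`, modulo the linear theorem for a group generated by two commuting
elements of order dividing `p`.
-/

set_option autoImplicit false
set_option linter.style.haveILetI false
set_option linter.unusedSectionVars false

namespace Cfsg.Agent.Helper9.GenBr

open Cfsg.Agent.Lead.Ward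

universe u u₁

/-- **The linear theorem for Ward's theorem**, as a hypothesis (the hypotheses are those of the
linear theorem for the Frobenius case, with the generators of a Frobenius group replaced by two
commuting elements of order dividing `p`). -/
def WardLinHyp : Prop :=
  ∀ (k : Type) [Field k] [IsAlgClosed k] (r : ℕ) [Fact r.Prime] [CharP k r]
    (Γ : Type u) [Group Γ] [Finite Γ] (W : Type u) [AddCommGroup W] [Module k W]
    [Module.Finite k W] (ρ : Representation k Γ W) (p : ℕ) (𝔸 : Subgroup Γ) (a₀ u₀ : Γ),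
    ElemGen p 𝔸 a₀ u₀ →
    (∀ w : W, (∀ a ∈ 𝔸, ρ a w = w) → w = 0) →
    ∀ H : Subgroup Γ, 𝔸 ≤ Subgroup.normalizer (H : Set Γ) →
    Group.IsSolvable H → (Nat.card H).Coprime p → r.Coprime p →
    (∀ x ∈ H, (∀ a ∈ 𝔸, a * x * a⁻¹ = x) → x = 1) →
    (∀ x ∈ H, ρ x = 1 → x = 1) →
    (∀ E : Subgroup Γ, E ≤ H → E ≠ ⊥ → (∀ g ∈ H, ∀ x ∈ E, g * x * g⁻¹ ∈ E) →
      𝔸 ≤ Subgroup.normalizer (E : Set Γ) → ∀ w : W, (∀ e ∈ E, ρ e w = w) → w = 0) →
    (∀ P : Subgroup Γ, P ≤ H → (∀ g ∈ H, ∀ x ∈ P, g * x * g⁻¹ ∈ P) →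
      𝔸 ≤ Subgroup.normalizer (P : Set Γ) → IsPGroup r P → P = ⊥) →
    (∀ H₀ : Subgroup Γ, H₀ ≤ H → H₀ ≠ H → 𝔸 ≤ Subgroup.normalizer (H₀ : Set Γ) →
      ∃ c : ℕ, IsPGroup r (H₀.lowerCentralSeries c)) →
    ∃ c : ℕ, H.lowerCentralSeries c = ⊥

/-- the generators of the image of a group generated by two commuting elements of order `p`. -/
theorem elemGen_range {B : Type*} [Group B] {Γ : Type*} [Group Γ] {p : ℕ} (hp : p.Prime)
    (ψ : B →* Γ) {𝔸 : Subgroup Γ} (hψ : ψ.range = 𝔸) (a' u' : B) (hc : a' * u' = u' * a')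
    (ha : a' ^ p = 1) (hu : u' ^ p = 1) (hcl : Subgroup.closure {a', u'} = (⊤ : Subgroup B)) :
    ElemGen p 𝔸 (ψ a') (ψ u') where
  hp := hp
  comm := by rw [← map_mul, hc, map_mul]
  ap := by rw [← map_pow, ha, map_one]
  up := by rw [← map_pow, hu, map_one]
  gen := by rw [← hψ]; exact range_eq_closure_pair ψ a' u' hcl

/-- **Ward's theorem**, modulo the linear theorem. -/
theorem ward_of_linHyp (hLin : WardLinHyp.{u₁}) {G : Type u₁} [Group G] [Finite G]
    (hG : Group.IsSolvable G) {p : ℕ} (hp : p.Prime) (A : Subgroup (MulAut G))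
    (hA : Cfsg.IsElementaryAbelian p A) (hcard : Nat.card A = p ^ 2)
    (hfpf : ∀ g : G, (∀ a ∈ A, a g = g) → g = 1) :
    ∃ F : Fin (2 + 1) → Subgroup G, F 0 = ⊥ ∧ F (Fin.last 2) = ⊤ ∧ Monotone F ∧
      (∀ i, (F i).Normal) ∧
      ∀ i : Fin 2, ∃ k : ℕ, (F i.succ).lowerCentralSeries k ≤ F i.castSucc := by
  obtain ⟨a', u', hc, ha, hu, hcl⟩ := exists_gens hp A hA hcard
  apply fitting_chain_of_pgroup hG hp A (isPGroup_of_elementary A hA) ?_ hfpf
  intro k _ _ r _ _ Γ _ _ W _ _ _ ρ 𝔸 ψ hψ hfix H hAH hsolv hcop hrA hCH hfaith hIrr hOp hMin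
  have hdvd : p ∣ Nat.card ↥A := by rw [hcard]; exact dvd_pow_self p (by norm_num)
  exact hLin k r Γ W ρ p 𝔸 (ψ a') (ψ u') (elemGen_range hp ψ hψ a' u' hc ha hu hcl) hfix H hAH
    hsolv (Nat.Coprime.coprime_dvd_right hdvd hcop) (Nat.Coprime.coprime_dvd_right hdvd hrA)
    hCH hfaith hIrr hOp hMin

end Cfsg.Agent.Helper9.GenBr
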