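import Cfsg.Agent.Helper9.GenBr.Ward
import Cfsg.Prelude.Def_Transfer

/-!
Generic bridge, glue for Ward's theorem: generators of an elementary abelian group of order `p²`
and their images under a homomorphism.
-/

set_option autoImplicit false
set_option linter.style.haveILetI false
set_option linter.unusedSectionVars false

namespace Cfsg.Agent.Helper9.GenBr

universe u₁

/-- an elementary abelian subgroup is a `p`-group. -/
theorem isPGroup_of_elementary {P : Type*} [Group P] {p : ℕ} (A : Subgroup P)
    (hA : Cfsg.IsElementaryAbelian p A) : IsPGroup p A := by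
  intro x
  refine ⟨1, ?_⟩
  rw [pow_one]
  apply Subtype.ext
  rw [Subgroup.coe_pow, Subgroup.coe_one]
  exact hA.2 x x.2

/-- two generators of an elementary abelian group of order `p²`. -/
theorem exists_gens {P : Type*} [Group P] {p : ℕ} (hp : p.Prime) (A : Subgroup P)
    (hA : Cfsg.IsElementaryAbelian p A) (hcard : Nat.card A = p ^ 2) :
    ∃ a' u' : ↥A, a' * u' = u' * a' ∧ a' ^ p = 1 ∧ u' ^ p = 1 ∧
      Subgroup.closure {a', u'} = (⊤ : Subgroup ↥A) := by
  haveI : Fact p.Prime := ⟨hp⟩
  haveI : Finite ↥A := Nat.finite_of_card_ne_zero (by rw [hcard]; exact pow_ne_zero 2 hp.pos.ne')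
  have hpow : ∀ x : ↥A, x ^ p = 1 := by
    intro x
    apply Subtype.ext
    rw [Subgroup.coe_pow, Subgroup.coe_one]
    exact hA.2 x x.2
  have hcomm : ∀ x y : ↥A, x * y = y * x := by
    intro x y
    exact hA.1.is_comm.comm x y
  -- a nontrivial element
  have h1 : 1 < Nat.card ↥A := by
    rw [hcard]
    exact Nat.one_lt_pow (by norm_num) hp.one_lt
  haveI : Nontrivial ↥A := Finite.one_lt_card_iff_nontrivial.1 h1
  obtain ⟨a', ha'⟩ := exists_ne (1 : ↥A)
  have horda : orderOf a' = p := orderOf_eq_prime (hpow a') ha'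
  have hcz : Nat.card (Subgroup.zpowers a') = p := by rw [Nat.card_zpowers, horda]
  -- an element outside the cyclic subgroup
  have hne : Subgroup.zpowers a' ≠ ⊤ := by
    intro htop
    rw [htop, Subgroup.card_top, hcard] at hcz
    have : p ^ 2 = p ^ 1 := by rw [pow_one]; exact hcz
    have := Nat.pow_right_injective hp.two_le this
    omega
  obtain ⟨u', hu'⟩ : ∃ u' : ↥A, u' ∉ Subgroup.zpowers a' := by
    by_contra hcon
    push Not at hcon
    exact hne (eq_top_iff.2 (fun x _ => hcon x))
  refine ⟨a', u', hcomm a' u', hpow a', hpow u', ?_⟩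
  -- the closure has order greater than `p` dividing `p ^ 2`
  obtain ⟨K, hK⟩ : ∃ K : Subgroup ↥A, K = Subgroup.closure {a', u'} := ⟨_, rfl⟩
  rw [← hK]
  have haK : a' ∈ K := by rw [hK]; exact Subgroup.subset_closure (by simp)
  have huK : u' ∈ K := by rw [hK]; exact Subgroup.subset_closure (by simp)
  have hzK : Subgroup.zpowers a' ≤ K := Subgroup.zpowers_le.2 haK
  have hdvd : Nat.card K ∣ p ^ 2 := by
    rw [← hcard]; exact Subgroup.card_subgroup_dvd_card K
  obtain ⟨i, hi, hKi⟩ := (Nat.dvd_prime_pow hp).1 hdvd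
  have hlt : p < Nat.card K := by
    by_contra hle
    push Not at hle
    have : Subgroup.zpowers a' = K :=
      Subgroup.eq_of_le_of_card_ge hzK (by rw [hcz]; exact hle)
    apply hu'
    rw [this]
    exact huK
  have hi2 : i = 2 := by
    rw [hKi] at hlt
    have h3 : p ^ 1 < p ^ i := by rw [pow_one]; exact hlt
    have := (Nat.pow_lt_pow_iff_right hp.one_lt).1 h3
    omega
  apply Subgroup.eq_top_of_card_eq
  rw [hKi, hi2, hcard]

/-- the image of a generated group is generated by the images. -/
theorem range_eq_closure_pair {B : Type*} [Group B] {Γ : Type*} [Group Γ] (ψ : B →* Γ)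
    (a' u' : B) (h : Subgroup.closure {a', u'} = (⊤ : Subgroup B)) :
    ψ.range = Subgroup.closure {ψ a', ψ u'} := by
  rw [MonoidHom.range_eq_map, ← h, MonoidHom.map_closure, Set.image_pair]

end Cfsg.Agent.Helper9.GenBr
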